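import Groth.Agent.ProjCech.CompareNat
import Groth.Agent.SiteCoh.Terminal

/-!
Global cohomology as cohomology over a terminal object, naturally.
-/

universe u

open CategoryTheory Category Limits Opposite Abelian Groth.Agent.SiteCoh

noncomputable section

namespace Groth.Agent.ProjCech

variable {C : Type u} [SmallCategory C] (K : GrothendieckTopology C) {T : C}

lemma huTerminalEquiv_apply (hT : IsTerminal T) (F : Sheaf K AddCommGrpCat.{u}) (q : ℕ) (x : Sheaf.H.{u} F q) :
    huTerminalEquiv K hT F q x = (Ext.mk₀ (freeTerminalIso K hT).hom).comp x (zero_add q) := rfl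

/-- Global cohomology to cohomology over a terminal object, naturally. -/
lemma huTerminalEquiv_natural (hT : IsTerminal T) {F G : Sheaf K AddCommGrpCat.{u}} (f : F ⟶ G) (q : ℕ)
    (x : Sheaf.H.{u} F q) :
    huTerminalEquiv K hT G q (Sheaf.H.map f q x) = huMap T f q (huTerminalEquiv K hT F q x) := by
  rw [huTerminalEquiv_apply, huTerminalEquiv_apply]
  exact (Ext.comp_assoc _ _ _ (zero_add q) (add_zero q) (by omega)).symm

end Groth.Agent.ProjCech
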