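import Groth.Agent.ProjCech.Sections
import Groth.Agent.ProjCech.HUNat
import Groth.Agent.CohQC.Relative
import Groth.Prelude.Def_Twist2
import Groth.Agent.S0022

/-!
Cohomology of the twists on projective space over a ring.
-/

set_option autoImplicit false
set_option backward.isDefEq.respectTransparency false

universe u

open CategoryTheory Category Limits AlgebraicGeometry TopologicalSpace Opposite Abelian
open Groth.Agent.SiteCoh
open Groth.Agent.QC (res resO)

noncomputable section

namespace Groth.Agent.ProjCech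

/-- Homology computed by a map on cochains, naturally in endomorphisms. -/
lemma homology_of_cycles (K : CochainComplex AddCommGrpCat.{u} ℕ) (p : ℕ) {M : Type u} [AddCommGroup M]
    (φ : K.X p →+ M) (hsurj : ∀ m, ∃ z, K.d p (p + 1) z = 0 ∧ φ z = m)
    (hker : ∀ z, K.d p (p + 1) z = 0 → (φ z = 0 ↔ ∃ y, K.d ((ComplexShape.up ℕ).prev p) p y = z)) :
    ∃ e : K.homology p ≃+ M, ∀ (ψ : K ⟶ K) (g : M → M),
      (∀ z, K.d p (p + 1) z = 0 → φ (ψ.f p z) = g (φ z)) →
      ∀ x, e (HomologicalComplex.homologyMap ψ p x) = g (e x) := by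
  have hπ : Function.Surjective (K.homologyπ p) := (AddCommGrpCat.epi_iff_surjective _).mp inferInstance
  have hi : Function.Injective (K.iCycles p) := (AddCommGrpCat.mono_iff_injective _).mp inferInstance
  have hcyc : ∀ w, K.d p (p + 1) (K.iCycles p w) = 0 :=
    fun w => ConcreteCategory.congr_hom (K.iCycles_d p (p + 1)) w
  have hlift : ∀ z, K.d p (p + 1) z = 0 → ∃ w, K.iCycles p w = z := fun z hz => by
    have he := ShortComplex.exact_of_f_is_kernel
      (ShortComplex.mk (K.iCycles p) (K.d p (p + 1)) (K.iCycles_d p (p + 1)))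
      (K.cyclesIsKernel p (p + 1) (by simp))
    exact (ShortComplex.ab_exact_iff _).mp he z hz
  have hexact : ∀ w, K.homologyπ p w = 0 ↔
      ∃ y, K.d ((ComplexShape.up ℕ).prev p) p y = K.iCycles p w := fun w => by
    constructor
    · intro h
      obtain ⟨y, hy⟩ := (ShortComplex.ab_exact_iff _).mp (ShortComplex.exact_of_g_is_cokernel
        (ShortComplex.mk _ _ (K.toCycles_comp_homologyπ _ p)) (K.homologyIsCokernel _ p rfl)) w h
      refine ⟨y, ?_⟩
      rw [← hy]
      exact (ConcreteCategory.congr_hom (K.toCycles_i ((ComplexShape.up ℕ).prev p) p) y).symm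
    · rintro ⟨y, hy⟩
      have : K.toCycles ((ComplexShape.up ℕ).prev p) p y = w :=
        hi ((ConcreteCategory.congr_hom (K.toCycles_i _ p) y).trans hy)
      rw [← this]
      exact ConcreteCategory.congr_hom (K.toCycles_comp_homologyπ _ p) y
  let ψ₀ : K.cycles p →+ M := φ.comp (K.iCycles p).hom
  have hψs : Function.Surjective ψ₀ := fun m => by
    obtain ⟨z, hz, rfl⟩ := hsurj m
    obtain ⟨w, rfl⟩ := hlift z hz
    exact ⟨w, rfl⟩
  have hk : ∀ w, (K.homologyπ p).hom w = 0 ↔ ψ₀ w = 0 := fun w =>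
    (hexact w).trans (hker _ (hcyc w)).symm
  refine ⟨equivOfKerEq (K.homologyπ p).hom ψ₀ hπ hψs hk, fun ψ g hg x => ?_⟩
  obtain ⟨w, rfl⟩ := hπ x
  have heq : ∀ w, equivOfKerEq (K.homologyπ p).hom ψ₀ hπ hψs hk (K.homologyπ p w) = ψ₀ w := fun w => by
    simp only [equivOfKerEq, AddEquiv.trans_apply]
    rw [show (QuotientAddGroup.quotientKerEquivOfSurjective (K.homologyπ p).hom hπ).symm (K.homologyπ p w) =
      QuotientAddGroup.mk w from (AddEquiv.symm_apply_eq _).2 rfl]
    rfl
  have h1 := ConcreteCategory.congr_hom (HomologicalComplex.homologyπ_naturality ψ p) w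
  refine (congrArg (equivOfKerEq _ _ hπ hψs hk) h1).trans ((heq _).trans (Eq.trans ?_ (congrArg g (heq w)).symm))
  have h2 := ConcreteCategory.congr_hom (HomologicalComplex.cyclesMap_i ψ p) w
  exact (congrArg φ h2).trans (hg _ (hcyc w))

variable (n : ℕ) (R : Type u) [CommRing R] (d : ℤ)

/-- The standard covering. -/
def cov (i : J.{u} n) : (CohB1.ProjSpace n R).Opens :=
  Proj.basicOpen (CohB1.polyGrading n R) (MvPolynomial.X i.down)

variable {n R} {p : ℕ}

lemma tupleProd_cov (a : Fin (p + 1) → J.{u} n) :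
    tupleProd (cov n R) a = Proj.basicOpen (CohB1.polyGrading n R) (T R a) :=
  (tupleProd_eq_iInf _ a).trans (basicOpen_T a).symm

lemma isAffineOpen_cov (a : Fin (p + 1) → J.{u} n) : IsAffineOpen (⨅ k, cov n R (a k)) := by
  have e : (⨅ k, cov n R (a k)) = Proj.basicOpen (CohB1.polyGrading n R) (T R a) := (basicOpen_T a).symm
  rw [e]
  exact ProjLib.isAffineOpen_basicOpen _ (T_mem a) (Nat.succ_pos p)

lemma iSup_cov : iSup (cov n R) = (⊤ : (CohB1.ProjSpace n R).Opens) := by
  rw [eq_top_iff]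
  intro x _
  have h : x ∈ ⨆ i : Fin (n + 1), Proj.basicOpen (CohB1.polyGrading n R) (MvPolynomial.X i) :=
    (Groth.Agent.S9576.result n R).1.ge trivial
  obtain ⟨l, hl⟩ := Opens.mem_iSup.1 h
  exact Opens.mem_iSup.2 ⟨⟨l⟩, hl⟩

variable (n R)

/-- The presheaf underlying a twist, on the opens. -/
abbrev P0 := res' (𝟭 (CohB1.ProjSpace n R).Opens) (Coh.toAb (Twist.twistProjSpace n R d))

variable {n R d}

/-- Sections on an intersection as Laurent polynomials. -/
def toLaurent (a : Fin (p + 1) → J.{u} n) : (P0 n R d).obj (op (tupleProd (cov n R) a)) →+ L n R :=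
  valHom (d := d) (tupleProd_cov a)

lemma toLaurent_injective (a : Fin (p + 1) → J.{u} n) : Function.Injective (toLaurent (R := R) (d := d) a) :=
  valHom_injective _

lemma allowed_toLaurent (a : Fin (p + 1) → J.{u} n) (s) : Allowed d a (toLaurent (R := R) (d := d) a s) :=
  allowed_valHom _ s

lemma exists_toLaurent_eq (a : Fin (p + 1) → J.{u} n) (x : L n R) (hx : Allowed d a x) :
    ∃ s, toLaurent (R := R) (d := d) a s = x :=
  exists_valHom_eq _ x hx

/-- Cochains as tuples of Laurent polynomials. -/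
def cl (p : ℕ) : (cechCx (cov n R) (P0 n R d)).X p →+ ((Fin (p + 1) → J.{u} n) → L n R) :=
  AddMonoidHom.mk' (fun x a => toLaurent a (cochainEquiv _ _ p x a))
    fun x y => funext fun a => by simp only [map_add, Pi.add_apply]

lemma cl_d (x : (cechCx (cov n R) (P0 n R d)).X p) :
    cl (p + 1) ((cechCx (cov n R) (P0 n R d)).d p (p + 1) x) = dd (cl p x) := by
  funext a
  change toLaurent a (cochainEquiv _ _ (p + 1) _ a) = _
  rw [cochainEquiv_d, cd_sum, map_sum]
  refine Finset.sum_congr rfl fun k _ => ?_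
  rw [map_zsmul]
  exact congrArg _ (valHom_res (tupleProd_cov (a ∘ k.succAbove)) k (tupleProd_cov a) rfl
    (leOfHom (tupleDrop (cov n R) a k)) _)

lemma cl_injective : Function.Injective (cl (n := n) (R := R) (d := d) p) := fun x y h =>
  (cochainEquiv _ _ p).injective (funext fun a => toLaurent_injective a (congrFun h a))

lemma allowed_cl (x : (cechCx (cov n R) (P0 n R d)).X p) (a) : Allowed d a (cl p x a) := allowed_toLaurent a _

lemma exists_cl_eq (f : (Fin (p + 1) → J.{u} n) → L n R) (hf : ∀ a, Allowed d a (f a)) :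
    ∃ x : (cechCx (cov n R) (P0 n R d)).X p, cl p x = f := by
  choose s hs using fun a => exists_toLaurent_eq a (f a) (hf a)
  exact ⟨(cochainEquiv _ _ p).symm s, funext fun a => by
    change toLaurent a (cochainEquiv _ _ p ((cochainEquiv _ _ p).symm s) a) = _
    rw [AddEquiv.apply_symm_apply]; exact hs a⟩

lemma d_eq_zero_iff_dd (x : (cechCx (cov n R) (P0 n R d)).X p) :
    (cechCx (cov n R) (P0 n R d)).d p (p + 1) x = 0 ↔ ∀ a, dd (cl p x) a = 0 := by
  rw [← cl_d]
  refine ⟨fun h a => by rw [h, map_zero]; rfl, fun h => cl_injective ?_⟩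
  rw [map_zero]
  exact funext h

lemma acy_twist : Acy (𝟭 (CohB1.ProjSpace n R).Opens) (cov n R) (Coh.toAb (Twist.twistProjSpace n R d)) := by
  have hq : (Twist.twistProjSpace n R d).IsQuasicoherent :=
    GrT.isQCoh_tilde (CohB1.polyGrading n R) (CohB1.polyGrading n R) d
  exact fun m a q => CohQC.hu_vanish_of_isAffineOpen _ (by
      change IsAffineOpen (tupleProd (cov n R) a)
      rw [tupleProd_eq_iInf]
      exact isAffineOpen_cov a) q

lemma cl_smul (r : R) (z : (cechCx (cov n R) (P0 n R d)).X p) :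
    cl p ((cechMap (Y := cov n R) (resMap' (𝟭 (CohB1.ProjSpace n R).Opens) (Coh.smulAb (Twist.twistProjSpace n R d)
        (Coh.toGlobal (CohB1.ProjSpace n R ↘ Spec (CommRingCat.of R)) r)))).f p z) = r • cl p z := by
  funext a
  change toLaurent a (cochainEquiv _ _ p _ a) = r • toLaurent a (cochainEquiv _ _ p z a)
  rw [cochainEquiv_map]
  exact valHom_smul (tupleProd_cov a) r _

/-- A linear map on cochains with the right kernel on cocycles computes cohomology, `R`-linearly. -/
theorem hh_equiv {M : Type u} [AddCommGroup M] [Module R M]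
    (Φ : ((Fin (p + 1) → J.{u} n) → L n R) →ₗ[R] M)
    (hsurj : ∀ m, ∃ f : (Fin (p + 1) → J.{u} n) → L n R,
      (∀ a, Allowed d a (f a)) ∧ (∀ a, dd f a = 0) ∧ Φ f = m)
    (hker : ∀ z, (cechCx (cov n R) (P0 n R d)).d p (p + 1) z = 0 → (Φ (cl p z) = 0 ↔
      ∃ y, (cechCx (cov n R) (P0 n R d)).d ((ComplexShape.up ℕ).prev p) p y = z)) :
    Nonempty (Coh.HH (CohB1.ProjSpace n R) (Twist.twistProjSpace n R d) p ≃ₗ[R] M) := by
  obtain ⟨e, he⟩ := cech_equiv_natural (Y := cov n R) (opensData (cov n R))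
    (fun I hI m => haveI := hI; cechExact_sheaf_injective (Opens.grothendieckTopology (CohB1.ProjSpace n R)) I (cov n R) m) p
  obtain ⟨e', he'⟩ := homology_of_cycles (cechCx (cov n R) (P0 n R d)) p (Φ.toAddMonoidHom.comp (cl p))
    (fun m => by
      obtain ⟨f, hf, hfd, rfl⟩ := hsurj m
      obtain ⟨x, rfl⟩ := exists_cl_eq f hf
      exact ⟨x, (d_eq_zero_iff_dd x).2 hfd, rfl⟩) hker
  have hT : IsTerminal (iSup (cov n R)) := (iSup_cov (n := n) (R := R)).symm ▸ isTerminalTop
  refine ⟨AddEquiv.toLinearEquiv (((huTerminalEquiv (Opens.grothendieckTopology (CohB1.ProjSpace n R)) hT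
    (Coh.toAb (Twist.twistProjSpace n R d)) p).trans (e _ acy_twist).symm).trans e') fun r x => ?_⟩
  simp only [AddEquiv.trans_apply]
  have h1 := huTerminalEquiv_natural (Opens.grothendieckTopology (CohB1.ProjSpace n R)) hT
    (Coh.smulAb (Twist.twistProjSpace n R d) (Coh.toGlobal (CohB1.ProjSpace n R ↘ Spec (CommRingCat.of R)) r)) p x
  have h2 : ∀ w, (e _ acy_twist).symm (huMap _ (Coh.smulAb (Twist.twistProjSpace n R d)
      (Coh.toGlobal (CohB1.ProjSpace n R ↘ Spec (CommRingCat.of R)) r)) p w) =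
      HomologicalComplex.homologyMap (cechMap (Y := cov n R) (resMap' (𝟭 _) (Coh.smulAb (Twist.twistProjSpace n R d)
      (Coh.toGlobal (CohB1.ProjSpace n R ↘ Spec (CommRingCat.of R)) r)))) p ((e _ acy_twist).symm w) := fun w => by
    rw [AddEquiv.symm_apply_eq, he _ _ acy_twist acy_twist, AddEquiv.apply_symm_apply]
  refine (congrArg (fun w => e' ((e _ acy_twist).symm w)) h1).trans ((congrArg e' (h2 _)).trans ?_)
  refine he' _ (r • ·) (fun z _ => ?_) _
  exact (congrArg Φ (cl_smul r z)).trans (map_smul Φ r _)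

theorem hh_equiv_zero {M : Type u} [AddCommGroup M] [Module R M]
    (Φ : ((Fin (0 + 1) → J.{u} n) → L n R) →ₗ[R] M)
    (hsurj : ∀ m, ∃ f : (Fin (0 + 1) → J.{u} n) → L n R,
      (∀ a, Allowed d a (f a)) ∧ (∀ a, dd f a = 0) ∧ Φ f = m)
    (hker : ∀ f : (Fin (0 + 1) → J.{u} n) → L n R,
      (∀ a, Allowed d a (f a)) → (∀ a, dd f a = 0) → Φ f = 0 → f = 0) :
    Nonempty (Coh.HH (CohB1.ProjSpace n R) (Twist.twistProjSpace n R d) 0 ≃ₗ[R] M) := by
  refine hh_equiv Φ hsurj fun z hz => ⟨fun h => ⟨0, ?_⟩, ?_⟩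
  · rw [map_zero]
    exact cl_injective (by rw [map_zero, hker _ (allowed_cl z) ((d_eq_zero_iff_dd z).1 hz) h])
  · rintro ⟨y, rfl⟩
    have h0 : (cechCx (cov n R) (P0 n R d)).d ((ComplexShape.up ℕ).prev 0) 0 y = 0 := by
      rw [HomologicalComplex.shape _ _ _ (by simp)]; rfl
    rw [h0, map_zero, map_zero]

theorem hh_equiv_succ {q : ℕ} {M : Type u} [AddCommGroup M] [Module R M]
    (Φ : ((Fin (q + 1 + 1) → J.{u} n) → L n R) →ₗ[R] M)
    (hsurj : ∀ m, ∃ f : (Fin (q + 1 + 1) → J.{u} n) → L n R,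
      (∀ a, Allowed d a (f a)) ∧ (∀ a, dd f a = 0) ∧ Φ f = m)
    (hker : ∀ f : (Fin (q + 1 + 1) → J.{u} n) → L n R,
      (∀ a, Allowed d a (f a)) → (∀ a, dd f a = 0) → Φ f = 0 → ∀ a e, NegAll e → cf e (f a) = 0)
    (hbd : ∀ g : (Fin (q + 1) → J.{u} n) → L n R, (∀ a, Allowed d a (g a)) → Φ (dd g) = 0) :
    Nonempty (Coh.HH (CohB1.ProjSpace n R) (Twist.twistProjSpace n R d) (q + 1) ≃ₗ[R] M) := by
  refine hh_equiv Φ hsurj fun z hz => ?_
  rw [show (ComplexShape.up ℕ).prev (q + 1) = q by simp]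
  constructor
  · intro h
    have hd' := (d_eq_zero_iff_dd z).1 hz
    obtain ⟨g, hg, hgz⟩ := exists_primitive (cl (q + 1) z) (allowed_cl z) hd'
      (hker _ (allowed_cl z) hd' h)
    obtain ⟨y, rfl⟩ := exists_cl_eq g hg
    exact ⟨y, cl_injective ((cl_d y).trans (funext hgz))⟩
  · rintro ⟨y, rfl⟩
    rw [cl_d]
    exact hbd _ (allowed_cl y)

/-- Coefficient transport along an injection of exponents, in one degree. -/
def coeffPull (ψ : (Fin (n + 1) →₀ ℕ) → (Fin (n + 1) → ℤ)) (hψ : Function.Injective ψ) (k : ℕ) :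
    L n R →ₗ[R] ↥(MvPolynomial.homogeneousSubmodule (Fin (n + 1)) R k) where
  toFun x := ⟨MvPolynomial.homogeneousComponent k (.ofCoeff (Finsupp.comapDomain ψ x.coeff hψ.injOn)),
    MvPolynomial.homogeneousComponent_mem k _⟩
  map_add' x y := Subtype.ext <| MvPolynomial.ext _ _ fun m => by
    simp only [Submodule.coe_add, MvPolynomial.coeff_add, MvPolynomial.coeff_homogeneousComponent]
    split_ifs <;> simp [MvPolynomial.coeff]
  map_smul' r x := Subtype.ext <| MvPolynomial.ext _ _ fun m => by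
    simp only [Submodule.coe_smul, RingHom.id_apply, MvPolynomial.coeff_smul, MvPolynomial.coeff_homogeneousComponent]
    split_ifs <;> simp [MvPolynomial.coeff]

lemma coeff_coeffPull (ψ : (Fin (n + 1) →₀ ℕ) → (Fin (n + 1) → ℤ)) (hψ : Function.Injective ψ) (k : ℕ)
    (x : L n R) (m : Fin (n + 1) →₀ ℕ) (hm : m.degree = k) :
    (coeffPull ψ hψ k x : MvPolynomial (Fin (n + 1)) R).coeff m = cf (ψ m) x := by
  change (MvPolynomial.homogeneousComponent k _).coeff m = _
  rw [MvPolynomial.coeff_homogeneousComponent, if_pos hm]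
  simp [MvPolynomial.coeff, cf]

/-- A preimage under `coeffPull`. -/
def coeffPush (ψ : (Fin (n + 1) →₀ ℕ) → (Fin (n + 1) → ℤ)) (P : MvPolynomial (Fin (n + 1)) R) : L n R :=
  .ofCoeff (Finsupp.mapDomain ψ (AddMonoidAlgebra.coeff P))

lemma coeffPull_push (ψ : (Fin (n + 1) →₀ ℕ) → (Fin (n + 1) → ℤ)) (hψ : Function.Injective ψ) {k : ℕ}
    (P : ↥(MvPolynomial.homogeneousSubmodule (Fin (n + 1)) R k)) : coeffPull ψ hψ k (coeffPush ψ P.1) = P := by
  refine Subtype.ext (MvPolynomial.ext _ _ fun m => ?_)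
  by_cases hm : m.degree = k
  · rw [coeff_coeffPull ψ hψ k _ m hm]
    simp [cf, coeffPush, Finsupp.mapDomain_apply hψ, MvPolynomial.coeff]
  · rw [((MvPolynomial.mem_homogeneousSubmodule _ _).1 P.2).coeff_eq_zero hm]
    exact ((MvPolynomial.mem_homogeneousSubmodule _ _).1
      (coeffPull ψ hψ k (coeffPush ψ P.1)).2).coeff_eq_zero hm

lemma cf_push_eq_zero (ψ : (Fin (n + 1) →₀ ℕ) → (Fin (n + 1) → ℤ)) (hψ : Function.Injective ψ) {k : ℕ}
    {P : MvPolynomial (Fin (n + 1)) R} (hP : P ∈ MvPolynomial.homogeneousSubmodule (Fin (n + 1)) R k)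
    {e : Fin (n + 1) → ℤ} (he : ∀ m, m.degree = k → ψ m ≠ e) : cf e (coeffPush ψ P) = 0 := by
  simp only [cf, AddMonoidHom.mk'_apply, coeffPush, AddMonoidAlgebra.coeff_ofCoeff]
  by_cases h : e ∈ Set.range ψ
  · obtain ⟨m, rfl⟩ := h
    rw [Finsupp.mapDomain_apply hψ]
    exact ((MvPolynomial.mem_homogeneousSubmodule _ _).1 hP).coeff_eq_zero fun hm => he m hm rfl
  · exact Finsupp.mapDomain_of_notMem_range _ _ h

/-- The exponents of totally negative monomials. -/
def negExp (m : Fin (n + 1) →₀ ℕ) (i : Fin (n + 1)) : ℤ := -(m i : ℤ) - 1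

lemma negExp_injective : Function.Injective (negExp (n := n)) := fun a b h => Finsupp.ext fun i => by
  have := congrFun h i
  simp only [negExp] at this
  omega

lemma sum_negExp (m : Fin (n + 1) →₀ ℕ) : ∑ i, negExp m i = -((n : ℤ) + 1 + m.degree) := by
  simp only [negExp, Finset.sum_sub_distrib, Finset.sum_neg_distrib, Finsupp.degree_eq_sum]
  push_cast
  simp
  ring

lemma negAll_negExp (m : Fin (n + 1) →₀ ℕ) : NegAll (negExp m) := fun i => by
  simp only [negExp]; omega

lemma exists_negExp {k : ℕ} {e : Fin (n + 1) → ℤ} (he : NegAll e) (hs : ∑ i, e i = -((n : ℤ) + 1 + k)) :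
    ∃ m : Fin (n + 1) →₀ ℕ, m.degree = k ∧ negExp m = e := by
  refine ⟨Finsupp.equivFunOnFinite.symm fun i => (-e i - 1).toNat, ?_, funext fun i => ?_⟩
  · have h : negExp (Finsupp.equivFunOnFinite.symm fun i => (-e i - 1).toNat) = e := funext fun i => by
      simp only [negExp, Finsupp.equivFunOnFinite_symm_apply_apply]
      have := he i; omega
    have := sum_negExp (Finsupp.equivFunOnFinite.symm fun i => (-e i - 1).toNat)
    rw [h, hs] at this
    omega
  · simp only [negExp, Finsupp.equivFunOnFinite_symm_apply_apply]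
    have := he i; omega

/-- `H^n(P^n, O(-(n+1+k)))`. -/
theorem top_equiv (n k : ℕ) : Nonempty (Coh.HH (CohB1.ProjSpace n R)
    (Twist.twistProjSpace n R (-((n : ℤ) + 1 + k))) n ≃ₗ[R] ↥(MvPolynomial.homogeneousSubmodule (Fin (n + 1)) R k)) := by
  let Φ : ((Fin (n + 1) → J.{u} n) → L n R) →ₗ[R] ↥(MvPolynomial.homogeneousSubmodule (Fin (n + 1)) R k) :=
    (coeffPull negExp negExp_injective k).comp (LinearMap.proj (σ n : Fin (n + 1) → J.{u} n))
  have hsurj : ∀ P, ∃ f : (Fin (n + 1) → J.{u} n) → L n R,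
      (∀ a, Allowed (-((n : ℤ) + 1 + k)) a (f a)) ∧ (∀ a, dd f a = 0) ∧ Φ f = P := fun P => by
    refine ⟨topCochain (coeffPush negExp P.1), allowed_topCochain fun e he => ?_, dd_topCochain _, ?_⟩
    · exact cf_push_eq_zero negExp negExp_injective P.2 fun m hm h => he ⟨h ▸ negAll_negExp m, by
        rw [← h, sum_negExp, hm]⟩
    · simp only [Φ, LinearMap.comp_apply, LinearMap.proj_apply, topCochain_self]
      exact coeffPull_push negExp negExp_injective P
  have hneg : ∀ f : (Fin (n + 1) → J.{u} n) → L n R, (∀ a, Allowed (-((n : ℤ) + 1 + k)) a (f a)) →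
      (∀ a, dd f a = 0) → Φ f = 0 → ∀ a e, NegAll e → cf e (f a) = 0 := by
    intro f hf hd h a e he
    refine top_negAll f hf hd (fun e he => ?_) a he
    by_cases hs : ∑ i, e i = -((n : ℤ) + 1 + k)
    · obtain ⟨m, hm, rfl⟩ := exists_negExp he hs
      rw [← coeff_coeffPull negExp negExp_injective k (f (σ n)) m hm]
      exact congrArg (fun P : ↥(MvPolynomial.homogeneousSubmodule (Fin (n + 1)) R k) => P.1.coeff m) h
    · exact hf _ e fun hg => hs hg.1
  rcases n with _ | q
  · refine hh_equiv_zero Φ hsurj fun f hf hd h => funext fun a => cf_ext fun e => ?_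
    rw [Pi.zero_apply, map_zero]
    by_cases he : NegAll e
    · exact hneg f hf hd h a e he
    · refine hf a e fun hg => he fun i => ?_
      have := hg.1
      rw [Fin.sum_univ_one] at this
      rw [Fin.fin_one_eq_zero i]
      push_cast at this
      omega
  · refine hh_equiv_succ Φ hsurj hneg fun g hg => Subtype.ext (MvPolynomial.ext _ _ fun m => ?_)
    by_cases hm : m.degree = k
    · simp only [Φ, LinearMap.comp_apply, LinearMap.proj_apply, coeff_coeffPull negExp _ k _ m hm, cf_dd]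
      simp only [Submodule.coe_zero, MvPolynomial.coeff_zero, dd]
      exact Finset.sum_eq_zero fun j _ => by
        rw [cf_eq_zero_of_negAll (Nat.lt_succ_self q) (hg _) (negAll_negExp m), smul_zero]
    · rw [Submodule.coe_zero, MvPolynomial.coeff_zero]
      exact ((MvPolynomial.mem_homogeneousSubmodule _ _).1 (Φ (dd g)).2).coeff_eq_zero hm

/-- `H^0(P^n, O(d))` for `d ≥ 0`. -/
theorem zero_equiv (n d : ℕ) : Nonempty (Coh.HH (CohB1.ProjSpace n R)
    (Twist.twistProjSpace n R (d : ℤ)) 0 ≃ₗ[R] ↥(MvPolynomial.homogeneousSubmodule (Fin (n + 1)) R d)) := by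
  let a₀ : Fin (0 + 1) → J.{u} n := fun _ => ⟨0⟩
  refine hh_equiv_zero ((coeffPull φ φ_injective d).comp (LinearMap.proj a₀)) (fun P => ?_) fun f hf hd h => ?_
  · refine ⟨fun _ => coeffPush φ P.1, fun a e he => ?_, fun a => ?_, ?_⟩
    · refine cf_push_eq_zero φ φ_injective P.2 fun m hm h => he ⟨?_, fun i hi => ?_⟩
      · subst h
        rw [← hm, Finsupp.degree_eq_sum]
        simp [φ]
      · subst h
        exact absurd hi (not_lt.2 (Int.natCast_nonneg (m i)))
    · simp [dd, Fin.sum_univ_two]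
    · exact coeffPull_push φ φ_injective P
  · have hneg : ∀ a e, NegAll e → cf e (f a) = 0 := fun a e he => hf a e fun hg => by
      have : ∑ i, e i ≤ ∑ _ : Fin (n + 1), (-1 : ℤ) := Finset.sum_le_sum fun i _ => by have := he i; omega
      simp at this
      have := hg.1
      omega
    obtain ⟨hc, hz⟩ := eq_const f hf hd hneg
    funext a
    refine cf_ext fun e => ?_
    rw [Pi.zero_apply, map_zero, hc a a₀]
    by_cases hs : Good (d : ℤ) a₀ e
    · by_cases hn : ∃ i, e i < 0
      · exact hz a₀ e hn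
      · push Not at hn
        let m : Fin (n + 1) →₀ ℕ := Finsupp.equivFunOnFinite.symm fun i => (e i).toNat
        have hme : φ m = e := funext fun i => by
          simp [φ, m, Int.toNat_of_nonneg (hn i)]
        have hm : m.degree = d := by
          rw [Finsupp.degree_eq_sum]
          have := hs.1
          rw [← hme] at this
          simpa [φ, ← Nat.cast_sum] using this
        rw [← hme, ← coeff_coeffPull φ φ_injective d (f a₀) m hm]
        exact congrArg (fun P : ↥(MvPolynomial.homogeneousSubmodule (Fin (n + 1)) R d) => P.1.coeff m) h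
    · exact hf a₀ e hs

/-- Vanishing outside the two exceptional ranges. -/
theorem twist_vanish (n : ℕ) (d : ℤ) (q : ℕ) (h₀ : ¬ (q = 0 ∧ 0 ≤ d))
    (hn : ¬ (q = n ∧ d ≤ -((n : ℤ) + 1))) :
    Subsingleton (Coh.HH (CohB1.ProjSpace n R) (Twist.twistProjSpace n R d) q) := by
  rcases lt_or_ge n q with hq | hq
  · have : Coh.IsQCoh (Twist.twistProjSpace n R d) :=
      GrT.isQCoh_tilde (CohB1.polyGrading n R) (CohB1.polyGrading n R) d
    exact Groth.Agent.S0022.result n R _ q hq
  have hneg : ∀ {r : ℕ}, r = q → ∀ (a : Fin (r + 1) → J.{u} n) (x : L n R), Allowed d a x → ∀ e, NegAll e → cf e x = 0 := by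
    rintro r rfl a x hx e he
    rcases eq_or_lt_of_le hq with rfl | hlt
    · exact cf_eq_zero_of_degree (lt_of_not_ge fun h => hn ⟨rfl, h⟩) hx he
    · exact cf_eq_zero_of_negAll hlt hx he
  rcases q with _ | q
  · obtain ⟨e⟩ := hh_equiv_zero (d := d) (n := n) (R := R) (M := PUnit.{u + 1}) 0
      (fun _ => ⟨0, fun a e _ => by simp, fun a => by simp [dd], rfl⟩) fun f hf hd _ => by
        obtain ⟨hc, hz⟩ := eq_const f hf hd (fun a e he => hneg rfl a (f a) (hf a) e he)
        funext a
        refine cf_ext fun e => ?_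
        rw [Pi.zero_apply, map_zero]
        by_cases hg : Good d a e
        · refine hz a e ?_
          by_contra hc'
          push Not at hc'
          refine h₀ ⟨rfl, hg.1 ▸ Finset.sum_nonneg fun i _ => hc' i⟩
        · exact hf a e hg
    exact e.toEquiv.subsingleton
  · obtain ⟨e⟩ := hh_equiv_succ (d := d) (n := n) (R := R) (q := q) (M := PUnit.{u + 1}) 0
      (fun _ => ⟨0, fun a e _ => by simp, fun a => by simp [dd], rfl⟩)
      (fun f hf hd _ a e he => hneg rfl a (f a) (hf a) e he) fun _ _ => rfl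
    exact e.toEquiv.subsingleton

end Groth.Agent.ProjCech

namespace Groth.Agent.ProjCech

/-- Higher cohomology of the structure sheaf of projective space. -/
theorem structureModule_vanish (n : ℕ) (R : Type u) [CommRing R] (q : ℕ) (hq : 0 < q) :
    Subsingleton (Coh.HH (CohB1.ProjSpace n R) (Coh.structureModule (CohB1.ProjSpace n R)) q) := by
  obtain ⟨e⟩ := GrT.nonempty_twist_zero_iso (𝒜 := CohB1.polyGrading n R)
  have h := twist_vanish (R := R) n 0 q (fun h => by omega) (fun h => by omega)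
  exact (((Sheaf.functorH _ q).mapIso
    ((SheafOfModules.toSheaf _).mapIso e)).addCommGroupIsoToAddEquiv.toEquiv).subsingleton_congr.1 h

end Groth.Agent.ProjCech
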