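import Groth.Agent.SiteCoh.Compare
import Mathlib.Algebra.Homology.HomologySequenceLemmas

/-!
The comparison of Čech cohomology and cohomology, natural in the sheaf.
-/

universe u v

open CategoryTheory Category Limits Opposite Abelian
open Groth.Agent.SiteCoh

set_option backward.isDefEq.respectTransparency false

noncomputable section

namespace Groth.Agent.ProjCech

variable {C : Type u} [SmallCategory C] {J : GrothendieckTopology C}
  {D : Type u} [Category.{v} D] [HasFiniteProducts D] (Φ : D ⥤ C) {ι : Type u} (Y : ι → D) (U : C)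

/-- The map on cohomology over an object. -/
def huMap {F G : Sheaf J AddCommGrpCat.{u}} (f : F ⟶ G) (p : ℕ) :
    Ext (CohCx.freeSheaf J U) F p →+ Ext (CohCx.freeSheaf J U) G p :=
  (Ext.mk₀ f).postcomp (CohCx.freeSheaf J U) (add_zero p)

/-- Acyclicity on the intersections of a family. -/
def Acy (F : Sheaf J AddCommGrpCat.{u}) : Prop :=
  ∀ (n : ℕ) (a : Fin (n + 1) → ι) (q : ℕ), Subsingleton (CohSite.HU F (q + 1) (Φ.obj (tupleProd Y a)))

/-- The induced map of the chosen short exact sequences. -/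
def embedMap {F G : Sheaf J AddCommGrpCat.{u}} (f : F ⟶ G) : embedSeq F ⟶ embedSeq G :=
  ShortComplex.homMk f (Injective.factorThru (f ≫ Injective.ι G) (Injective.ι F))
    (cokernel.map _ _ f (Injective.factorThru (f ≫ Injective.ι G) (Injective.ι F))
      (Injective.comp_factorThru _ _))
    (Injective.comp_factorThru _ _).symm (by simp)

/-- The induced map of Čech short complexes. -/
def cechSeqMap {S T : ShortComplex (Sheaf J AddCommGrpCat.{u})} (φ : S ⟶ T) :
    cechSeq Y Φ (S := S) ⟶ cechSeq Y Φ (S := T) :=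
  ShortComplex.homMk (cechMap (Y := Y) (resMap' Φ φ.τ₁)) (cechMap (Y := Y) (resMap' Φ φ.τ₂))
    (cechMap (Y := Y) (resMap' Φ φ.τ₃))
    (by
      simp only [cechMap, ← Functor.map_comp]
      congr 1
      ext V : 2
      exact congrArg (fun k => k.hom.app _) φ.comm₁₂)
    (by
      simp only [cechMap, ← Functor.map_comp]
      congr 1
      ext V : 2
      exact congrArg (fun k => k.hom.app _) φ.comm₂₃)

variable {Φ Y U}

lemma postcomp_extClass_natural {S T : ShortComplex (Sheaf J AddCommGrpCat.{u})} (hS : S.ShortExact)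
    (hT : T.ShortExact) (φ : S ⟶ T) {p q : ℕ} (h : p + 1 = q) (x : Ext (CohCx.freeSheaf J U) S.X₃ p) :
    hT.extClass.postcomp (CohCx.freeSheaf J U) h (huMap U φ.τ₃ p x) =
      huMap U φ.τ₁ q (hS.extClass.postcomp (CohCx.freeSheaf J U) h x) := by
  have e := ShortComplex.ShortExact.extClass_naturality hS hT φ
  change (x.comp (Ext.mk₀ φ.τ₃) (add_zero p)).comp hT.extClass h =
    (x.comp hS.extClass h).comp (Ext.mk₀ φ.τ₁) (add_zero q)
  rw [Ext.comp_assoc x (Ext.mk₀ φ.τ₃) hT.extClass (add_zero p) (zero_add 1) (by omega),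
    Ext.comp_assoc x hS.extClass (Ext.mk₀ φ.τ₁) h (add_zero 1) (by omega), e]

variable (c : CoverData J Φ Y U)

include c in
/-- Čech cohomology computes cohomology if all overlaps are acyclic, naturally in the sheaf. -/
theorem cech_equiv_natural (hinj : ∀ (I : Sheaf J AddCommGrpCat.{u}), Injective I → ∀ n, CechExact Y (res' Φ I) n)
    (p : ℕ) : ∃ e : ∀ F : Sheaf J AddCommGrpCat.{u}, Acy Φ Y F →
      ((cechCx Y (res' Φ F)).homology p ≃+ CohSite.HU F p U),
      ∀ (F G : Sheaf J AddCommGrpCat.{u}) (hF : Acy Φ Y F) (hG : Acy Φ Y G) (f : F ⟶ G)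
        (x : (cechCx Y (res' Φ F)).homology p),
        e G hG (HomologicalComplex.homologyMap (cechMap (Y := Y) (resMap' Φ f)) p x) =
          huMap U f p (e F hF x) := by
  induction p using Nat.strong_induction_on with
  | _ p ih =>
    rcases p with _ | p
    · refine ⟨fun F _ => (AddEquiv.ofBijective (augH c F).hom (augH_bijective c F)).symm.trans (hu0 F U).symm,
        fun F G _ _ f x => ?_⟩
      obtain ⟨s, rfl⟩ := (augH_bijective c F).2 x
      obtain ⟨a, rfl⟩ := (hu0 F U).surjective s
      obtain ⟨φ, rfl⟩ := (Ext.mk₀_bijective _ _).2 a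
      have h0 : ∀ (H : Sheaf J AddCommGrpCat.{u}) (ψ : CohCx.freeSheaf J U ⟶ H),
          hu0 H U (Ext.mk₀ ψ) = secEquiv U H ψ := fun H ψ => by
        change secEquiv U H (Ext.addEquiv₀ (Ext.mk₀ ψ)) = _
        exact congrArg _ (Ext.addEquiv₀.apply_symm_apply ψ)
      have h1 : HomologicalComplex.homologyMap (cechMap (Y := Y) (resMap' Φ f)) 0 (augH c F (hu0 F U (Ext.mk₀ φ))) =
          augH c G (hu0 G U (huMap U f 0 (Ext.mk₀ φ))) := by
        rw [show huMap U f 0 (Ext.mk₀ φ) = Ext.mk₀ (φ ≫ f) from Ext.mk₀_comp_mk₀ φ f, h0, h0, secEquiv_comp]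
        exact (ConcreteCategory.congr_hom (augH_natural c f) _).symm
      simp only [AddEquiv.trans_apply]
      rw [h1]
      refine (hu0 G U).symm_apply_eq.2 ?_
      refine (AddEquiv.symm_apply_eq _).2 ?_
      refine congrArg _ (congrArg _ (congrArg _ ?_))
      exact ((hu0 F U).symm_apply_eq.2 ((AddEquiv.symm_apply_eq _).2 rfl)).symm
    have hS := fun F : Sheaf J AddCommGrpCat.{u} => embedSeq_shortExact F
    have hsurj : ∀ F, Acy Φ Y F → ∀ (n : ℕ) (a : Fin (n + 1) → ι),
        Function.Surjective ((embedSeq F).g.hom.app (op (Φ.obj (tupleProd Y a)))) := fun F hF n a =>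
      have : Subsingleton (CohSite.HU (embedSeq F).X₁ 1 (Φ.obj (tupleProd Y a))) := hF n a 0
      sections_surjective (hS F) _
    have hK := fun F (hF : Acy Φ Y F) => cechSeq_shortExact Y Φ (hS F) (hsurj F hF)
    have hz : ∀ (F : Sheaf J AddCommGrpCat.{u}) n, IsZero ((cechSeq Y Φ (S := embedSeq F)).X₂.homology (n + 1)) :=
      fun F n => (isZero_cech_iff Y _ n).mpr (hinj _ inferInstance n)
    have hδ : ∀ (F G : Sheaf J AddCommGrpCat.{u}) (hF : Acy Φ Y F) (hG : Acy Φ Y G) (f : F ⟶ G) (i j : ℕ)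
        (hij : (ComplexShape.up ℕ).Rel i j) (w : (cechCx Y (res' Φ (embedSeq F).X₃)).homology i),
        HomologicalComplex.homologyMap (cechMap (Y := Y) (resMap' Φ f)) j ((hK F hF).δ i j hij w) =
          (hK G hG).δ i j hij
            (HomologicalComplex.homologyMap (cechMap (Y := Y) (resMap' Φ (embedMap f).τ₃)) i w) :=
      fun F G hF hG f i j hij w => ConcreteCategory.congr_hom
        (HomologicalComplex.HomologySequence.δ_naturality (cechSeqMap Φ Y (embedMap f)) (hK F hF) (hK G hG) i j hij) w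
    rcases p with _ | p
    · let ψ : ∀ F : Sheaf J AddCommGrpCat.{u},
          (embedSeq F).X₃.obj.obj (op U) →+ Ext (CohCx.freeSheaf J U) (embedSeq F).X₁ 1 := fun F =>
        ((hS F).extClass.postcomp (CohCx.freeSheaf J U) (zero_add 1)).comp
          (hu0 (embedSeq F).X₃ U).symm.toAddMonoidHom
      have hψ : ∀ F, Function.Surjective (ψ F) ∧
          ∀ x, ψ F x = 0 ↔ ∃ y, (embedSeq F).g.hom.app (op U) y = x := by
        intro F
        refine ⟨fun x => ?_, fun x => ⟨fun hx => ?_, ?_⟩⟩
        · obtain ⟨x₃, hx₃⟩ := Ext.covariant_sequence_exact₁ (CohCx.freeSheaf J U) (hS F) (n₁ := 1) x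
            (Subsingleton.elim _ _) (zero_add 1)
          exact ⟨hu0 _ U x₃, by
            change ((hu0 _ U).symm (hu0 _ U x₃)).comp (hS F).extClass (zero_add 1) = x
            rw [AddEquiv.symm_apply_apply]; exact hx₃⟩
        · obtain ⟨x₂, hx₂⟩ := Ext.covariant_sequence_exact₃ (CohCx.freeSheaf J U) (hS F) _ (zero_add 1) hx
          obtain ⟨φ, rfl⟩ := (Ext.mk₀_bijective _ _).2 x₂
          refine ⟨secEquiv U _ φ, ?_⟩
          rw [← secEquiv_comp]
          have := congrArg (hu0 (embedSeq F).X₃ U) hx₂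
          rw [Ext.mk₀_comp_mk₀] at this
          refine Eq.trans ?_ (this.trans ((hu0 _ U).apply_symm_apply x))
          change _ = secEquiv U _ (Ext.addEquiv₀ (Ext.mk₀ _))
          exact congrArg _ (Ext.addEquiv₀.apply_symm_apply _).symm
        · rintro ⟨y, rfl⟩
          obtain ⟨φ, rfl⟩ := (secEquiv U _).surjective y
          have : (hu0 (embedSeq F).X₃ U).symm ((embedSeq F).g.hom.app (op U) (secEquiv U _ φ)) =
              Ext.mk₀ (φ ≫ (embedSeq F).g) := by
            rw [AddEquiv.symm_apply_eq, ← secEquiv_comp]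
            change _ = secEquiv U _ (Ext.addEquiv₀ (Ext.mk₀ _))
            exact congrArg _ (Ext.addEquiv₀.apply_symm_apply _).symm
          change ((hu0 (embedSeq F).X₃ U).symm _).comp (hS F).extClass (zero_add 1) = 0
          rw [this, ← Ext.mk₀_comp_mk₀, Ext.comp_assoc _ _ _ (zero_add 0) (zero_add 1) (by omega),
            (hS F).comp_extClass, Ext.comp_zero]
      have hπ : ∀ F (hF : Acy Φ Y F), Function.Surjective ((hK F hF).δ 0 1 rfl) := fun F hF =>
        (AddCommGrpCat.epi_iff_surjective _).mp ((hK F hF).epi_δ 0 1 rfl (hz F 0))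
      let φ := fun F (hF : Acy Φ Y F) =>
        AddMonoidHom.comp ((hK F hF).δ 0 1 rfl).hom (augH c (embedSeq F).X₃).hom
      have hk : ∀ F (hF : Acy Φ Y F) x, φ F hF x = 0 ↔ ψ F x = 0 := fun F hF x => Iff.trans (by
        constructor
        · intro hx
          obtain ⟨w, hw⟩ := (ShortComplex.ab_exact_iff _).mp ((hK F hF).homology_exact₃ 0 1 rfl) _ hx
          obtain ⟨y, rfl⟩ := (augH_bijective c _).2 w
          exact ⟨y, (augH_bijective c _).1
            ((ConcreteCategory.congr_hom (augH_natural c (embedSeq F).g) y).trans hw)⟩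
        · rintro ⟨y, rfl⟩
          change (hK F hF).δ 0 1 rfl (augH c (embedSeq F).X₃ _) = 0
          refine (congr_arg ((hK F hF).δ 0 1 rfl) (ConcreteCategory.congr_hom (augH_natural c (embedSeq F).g) y)).trans ?_
          exact ConcreteCategory.congr_hom ((hK F hF).comp_δ 0 1 rfl) _) ((hψ F).2 x).symm
      refine ⟨fun F hF => equivOfKerEq (φ F hF) (ψ F) ((hπ F hF).comp (augH_bijective c _).2) (hψ F).1 (hk F hF),
        fun F G hF hG f x => ?_⟩
      obtain ⟨t, rfl⟩ := ((hπ F hF).comp (augH_bijective c (embedSeq F).X₃).2) x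
      have heq : ∀ F hF t, equivOfKerEq (φ F hF) (ψ F) ((hπ F hF).comp (augH_bijective c _).2) (hψ F).1
          (hk F hF) (φ F hF t) = ψ F t := by
        intro F hF t
        simp only [equivOfKerEq, AddEquiv.trans_apply]
        rw [show (QuotientAddGroup.quotientKerEquivOfSurjective (φ F hF)
          ((hπ F hF).comp (augH_bijective c _).2)).symm (φ F hF t) = QuotientAddGroup.mk t from
            (AddEquiv.symm_apply_eq _).2 rfl]
        rfl
      have h1 : HomologicalComplex.homologyMap (cechMap (Y := Y) (resMap' Φ f)) 1 (φ F hF t) =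
          φ G hG ((embedMap f).τ₃.hom.app (op U) t) :=
        (hδ F G hF hG f 0 1 rfl _).trans
          (congrArg ((hK G hG).δ 0 1 rfl) (ConcreteCategory.congr_hom (augH_natural c (embedMap f).τ₃) t).symm)
      refine (congrArg (equivOfKerEq _ _ _ _ _) h1).trans ((heq G hG _).trans
        (Eq.trans ?_ (congrArg (huMap U f 1) (heq F hF t)).symm))
      obtain ⟨α, rfl⟩ := (secEquiv U _).surjective t
      have h0 : ∀ (H : Sheaf J AddCommGrpCat.{u}) (β : CohCx.freeSheaf J U ⟶ H),
          (hu0 H U).symm (secEquiv U H β) = Ext.mk₀ β := fun H β => by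
        rw [AddEquiv.symm_apply_eq]
        change _ = secEquiv U H (Ext.addEquiv₀ (Ext.mk₀ β))
        exact congrArg _ (Ext.addEquiv₀.apply_symm_apply β).symm
      change (hS G).extClass.postcomp _ (zero_add 1) ((hu0 _ U).symm _) =
        huMap U f 1 ((hS F).extClass.postcomp _ (zero_add 1) ((hu0 _ U).symm _))
      rw [← secEquiv_comp, h0, h0]
      exact (congrArg ((hS G).extClass.postcomp _ (zero_add 1)) (Ext.mk₀_comp_mk₀ α _).symm).trans
        (postcomp_extClass_natural (hS F) (hS G) (embedMap f) (zero_add 1) _)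
    · obtain ⟨e, he⟩ := ih (p + 1) (by omega)
      have hq : ∀ F, Acy Φ Y F → Acy Φ Y (embedSeq F).X₃ := fun F hF n a q => acyclic_quotient (J := J) (F := F) _ (hF n a) q
      have hI : ∀ (F : Sheaf J AddCommGrpCat.{u}) (m : ℕ),
          Subsingleton (Ext (CohCx.freeSheaf J U) (embedSeq F).X₂ (m + 1)) :=
        fun F m => subsingleton_ext_injective _ _ m
      let s : ∀ F : Sheaf J AddCommGrpCat.{u},
          CohSite.HU (embedSeq F).X₃ (p + 1) U ≃+ CohSite.HU F (p + 1 + 1) U := fun F =>
        haveI := hI F p; haveI := hI F (p + 1)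
        shiftEquiv (hS F) (CohCx.freeSheaf J U) (p + 1)
      let δe := fun F (hF : Acy Φ Y F) =>
        ((hK F hF).δIso (p + 1) (p + 1 + 1) rfl (hz F p) (hz F (p + 1))).addCommGroupIsoToAddEquiv
      refine ⟨fun F hF => ((δe F hF).symm.trans (e _ (hq F hF))).trans (s F), fun F G hF hG f x => ?_⟩
      obtain ⟨w, rfl⟩ := (δe F hF).surjective x
      simp only [AddEquiv.trans_apply, AddEquiv.symm_apply_apply]
      have h1 : HomologicalComplex.homologyMap (cechMap (Y := Y) (resMap' Φ f)) (p + 1 + 1) (δe F hF w) =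
          δe G hG (HomologicalComplex.homologyMap (cechMap (Y := Y) (resMap' Φ (embedMap f).τ₃)) (p + 1) w) :=
        hδ F G hF hG f _ _ rfl w
      rw [h1, AddEquiv.symm_apply_apply, he _ _ (hq F hF) (hq G hG)]
      exact postcomp_extClass_natural (hS F) (hS G) (embedMap f) rfl _

end Groth.Agent.ProjCech
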