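import Mathlib

/-!
The Čech complex of Laurent polynomials, by exponents: homotopies and the top class.
-/

universe u v

open Finset

noncomputable section

namespace Groth.Agent.ProjCech

variable {ι : Type v} {A : Type u} [AddCommGroup A]

/-- The alternating sum over faces. -/
def dd {p : ℕ} (f : (Fin (p + 1) → ι) → A) (a : Fin (p + 2) → ι) : A :=
  ∑ k : Fin (p + 2), (-1 : ℤ) ^ (k : ℕ) • f (a ∘ k.succAbove)

/-- Coning off at a vertex. -/
def hh {p : ℕ} (i : ι) (f : (Fin (p + 2) → ι) → A) (a : Fin (p + 1) → ι) : A := f (Fin.cons i a)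

lemma cons_comp_succAbove_zero {p : ℕ} (i : ι) (a : Fin (p + 1) → ι) :
    (Fin.cons i a : Fin (p + 2) → ι) ∘ (0 : Fin (p + 2)).succAbove = a := by
  funext k; simp [Fin.succAbove_zero]

lemma cons_comp_succAbove_succ {p : ℕ} (i : ι) (a : Fin (p + 1) → ι) (k : Fin (p + 1)) :
    (Fin.cons i a : Fin (p + 2) → ι) ∘ k.succ.succAbove = Fin.cons i (a ∘ k.succAbove) := by
  funext l
  refine Fin.cases ?_ (fun m => ?_) l
  · simp
  · simp [Fin.succ_succAbove_succ]

/-- Contracting homotopy in positive degree. -/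
lemma homotopy {p : ℕ} (i : ι) (f : (Fin (p + 2) → ι) → A) (a : Fin (p + 2) → ι) :
    dd f (Fin.cons i a) + dd (hh i f) a = f a := by
  unfold dd hh
  rw [Fin.sum_univ_succ, cons_comp_succAbove_zero, add_assoc, ← sum_add_distrib]
  simp only [cons_comp_succAbove_succ, Fin.val_succ, pow_succ, mul_neg, mul_one, neg_smul,
    neg_add_cancel, sum_const_zero, add_zero, Fin.val_zero, pow_zero, one_smul]

/-- Contracting homotopy in degree zero. -/
lemma homotopy_zero (i : ι) (f : (Fin 1 → ι) → A) (a : Fin 1 → ι) :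
    dd f (Fin.cons i a) = f a - f fun _ => i := by
  unfold dd
  rw [Fin.sum_univ_two, cons_comp_succAbove_zero,
    show (Fin.cons i a : Fin 2 → ι) ∘ (1 : Fin 2).succAbove = fun _ => i by
      funext k; fin_cases k; simp]
  simp [sub_eq_add_neg]

section Top

variable {n : ℕ} (σ : Fin (n + 1) ≃ ι)

lemma not_surjective_of_le {p : ℕ} (hp : p < n) (σ : Fin (n + 1) ≃ ι) (a : Fin (p + 1) → ι) :
    ¬ Function.Surjective a := fun h => by
  have := Fintype.card_le_of_surjective (σ.symm ∘ a) (σ.symm.surjective.comp h)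
  simp only [Fintype.card_fin] at this
  omega

lemma not_surjective_face (τ : Fin (n + 1) ≃ ι) (j : Fin n) {k : Fin (n + 2)}
    (h1 : k ≠ j.castSucc.castSucc) (h2 : k ≠ j.succ.succ) :
    ¬ Function.Surjective ((Fin.insertNth j.succ.succ (τ j.castSucc) τ : Fin (n + 2) → ι) ∘ k.succAbove) := by
  intro h
  obtain ⟨m, rfl⟩ := Fin.exists_succAbove_eq h2
  obtain ⟨l, hl⟩ := h (τ m)
  rcases Fin.eq_self_or_eq_succAbove j.succ.succ (i := (j.succ.succ.succAbove m).succAbove l) with e | ⟨m', e⟩
  · rw [Function.comp_apply, e, Fin.insertNth_apply_same] at hl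
    exact h1 (by rw [← τ.injective hl, Fin.succAbove_of_castSucc_lt]; simp [Fin.lt_def])
  · rw [Function.comp_apply, e, Fin.insertNth_apply_succAbove] at hl
    rw [τ.injective hl] at e
    exact Fin.succAbove_ne _ _ e

variable (f : (Fin (n + 1) → ι) → A)

lemma swap_add_self (hd : ∀ a, dd f a = 0) (hs : ∀ a, ¬ Function.Surjective a → f a = 0)
    (τ : Fin (n + 1) ≃ ι) (j : Fin n) :
    f (τ ∘ Equiv.swap j.castSucc j.succ) + f τ = 0 := by
  have h := hd (Fin.insertNth j.succ.succ (τ j.castSucc) τ)
  unfold dd at h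
  have hne : j.castSucc.castSucc ≠ j.succ.succ := by simp [Fin.ext_iff]; omega
  rw [sum_eq_add j.castSucc.castSucc j.succ.succ hne (fun k _ hk =>
    by rw [hs _ (not_surjective_face τ j hk.1 hk.2), smul_zero]) (by simp) (by simp)] at h
  have e1 : (Fin.insertNth j.succ.succ (τ j.castSucc) τ : Fin (n + 2) → ι) ∘ j.succ.succ.succAbove = τ := by
    funext l; simp
  have e2 : (Fin.insertNth j.succ.succ (τ j.castSucc) τ : Fin (n + 2) → ι) ∘ j.castSucc.castSucc.succAbove =
      τ ∘ Equiv.swap j.castSucc j.succ := by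
    funext l
    simp only [Function.comp_apply]
    rcases Fin.eq_self_or_eq_succAbove j.succ.succ (i := j.castSucc.castSucc.succAbove l) with e | ⟨m, e⟩
    · have : l = j.succ := by
        refine Fin.succAbove_right_injective (p := j.castSucc.castSucc) (e.trans ?_)
        rw [Fin.succAbove_of_le_castSucc]; simp [Fin.le_def]
      subst this
      rw [e, Fin.insertNth_apply_same, Equiv.swap_apply_right]
    · rw [e, Fin.insertNth_apply_succAbove]
      congr 1
      simp only [Fin.succAbove, Fin.lt_def, Equiv.swap_apply_def, Fin.ext_iff] at e ⊢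
      split_ifs at e ⊢ <;> simp only [Fin.val_castSucc, Fin.val_succ] at * <;> omega
  rw [e1, e2] at h
  simp only [Fin.val_castSucc, Fin.val_succ] at h
  rw [show (-1 : ℤ) ^ ((j : ℕ) + 1 + 1) = (-1) ^ (j : ℕ) by simp [pow_succ], ← smul_add] at h
  have : (-1 : ℤ) ^ (j : ℕ) • ((-1 : ℤ) ^ (j : ℕ) • (f (τ ∘ Equiv.swap j.castSucc j.succ) + f τ)) = 0 := by
    rw [h, smul_zero]
  rwa [smul_smul, ← mul_pow, neg_one_mul, neg_neg, one_pow, one_smul] at this

/-- A top cocycle carried by surjective tuples is determined by one value. -/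
theorem eq_zero_of_top (hd : ∀ a, dd f a = 0) (hs : ∀ a, ¬ Function.Surjective a → f a = 0)
    (h : f σ = 0) (a : Fin (n + 1) → ι) : f a = 0 := by
  by_cases ha : Function.Surjective a
  · have hb : Function.Bijective (σ.symm ∘ a) :=
      (σ.symm.surjective.comp ha).bijective_of_finite
    let π : Equiv.Perm (Fin (n + 1)) := Equiv.ofBijective _ hb
    have key : ∀ π : Equiv.Perm (Fin (n + 1)), ∀ τ : Fin (n + 1) ≃ ι, f τ = 0 → f (τ ∘ π) = 0 := by
      intro π
      have : π ∈ Submonoid.closure (Set.range fun i : Fin n ↦ Equiv.swap i.castSucc i.succ) := by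
        rw [Equiv.Perm.mclosure_swap_castSucc_succ]; trivial
      induction this using Submonoid.closure_induction with
      | mem x hx =>
        obtain ⟨j, rfl⟩ := hx
        intro τ hτ
        simpa [hτ] using swap_add_self f hd hs τ j
      | one => exact fun τ hτ => hτ
      | mul x y _ _ hx hy =>
        intro τ hτ
        exact hy (x.trans τ) (hx τ hτ)
    have e : a = σ ∘ π := by funext k; simp [π, Equiv.ofBijective]
    rw [e]
    exact key π σ h
  · exact hs a ha

end Top

section Sgn

variable {n : ℕ} [DecidableEq ι] (σ : Fin (n + 1) ≃ ι) (R : Type u) [CommRing R]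

/-- The fundamental top cochain. -/
def sgn (a : Fin (n + 1) → ι) : R :=
  (Matrix.of fun k i => if a k = σ i then (1 : R) else 0).det

lemma sgn_self : sgn σ R σ = 1 := by
  unfold sgn
  rw [show (Matrix.of fun k i => if σ k = σ i then (1 : R) else 0) = 1 by
    ext k i; simp [Matrix.one_apply]]
  exact Matrix.det_one

lemma sgn_eq_zero (a : Fin (n + 1) → ι) (h : ¬ Function.Surjective a) : sgn σ R a = 0 := by
  obtain ⟨x, hx⟩ := not_forall.mp h
  refine Matrix.det_eq_zero_of_column_eq_zero (σ.symm x) fun k => ?_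
  simp only [Matrix.of_apply, Equiv.apply_symm_apply]
  exact if_neg fun e => hx ⟨k, e⟩

lemma dd_sgn (a : Fin (n + 2) → ι) : dd (sgn σ R) a = 0 := by
  let M : Matrix (Fin (n + 2)) (Fin (n + 2)) R :=
    Matrix.of fun k c => (Fin.cons (1 : R) (fun i => if a k = σ i then (1 : R) else 0) : Fin (n + 2) → R) c
  have hM : M.det = dd (sgn σ R) a := by
    rw [Matrix.det_succ_column_zero]
    refine sum_congr rfl fun k _ => ?_
    rw [zsmul_eq_mul]
    congr 1
    · simp [M]
  rw [← hM]
  let v : Fin (n + 2) → R := Fin.cons 1 fun _ => -1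
  have : M.det • v 0 = 0 := by
    have hv : M.mulVec v = 0 := by
      funext k
      simp only [Matrix.mulVec, dotProduct, Pi.zero_apply]
      rw [Fin.sum_univ_succ]
      simp only [M, v, Matrix.of_apply, Fin.cons_zero, Fin.cons_succ, mul_neg, mul_one]
      rw [sum_eq_single (σ.symm (a k)) (fun i _ hi => by rw [if_neg fun e => hi (by simp [e])]; simp)
        (by simp)]
      simp
    have := congrFun (congrArg (M.adjugate.mulVec ·) hv) 0
    simpa [Matrix.mulVec_mulVec, Matrix.adjugate_mul, Matrix.smul_mulVec, Matrix.one_mulVec] using this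
  simpa [v] using this

end Sgn

end Groth.Agent.ProjCech
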