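import Groth.Agent.ProjCech.Comb

/-!
Čech cochains with values in Laurent polynomials of fixed degree.
-/

universe u

open Finset

noncomputable section

namespace Groth.Agent.ProjCech

variable {n : ℕ} {R : Type u} [CommRing R]

/-- Laurent polynomials in `n + 1` variables. -/
abbrev L (n : ℕ) (R : Type u) [CommRing R] : Type u := AddMonoidAlgebra R (Fin (n + 1) → ℤ)

/-- Indices of the standard covering. -/
abbrev J (n : ℕ) : Type u := ULift.{u} (Fin (n + 1))

/-- Coefficient extraction. -/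
def cf (e : Fin (n + 1) → ℤ) : L n R →+ R :=
  AddMonoidHom.mk' (fun x => x.coeff e) fun x y => by simp

lemma cf_ext {x y : L n R} (h : ∀ e, cf e x = cf e y) : x = y := AddMonoidAlgebra.ext (Finsupp.ext h)

/-- All exponents negative. -/
def NegAll (e : Fin (n + 1) → ℤ) : Prop := ∀ i, e i < 0

/-- The exponent can occur on the intersection attached to a tuple. -/
def Good (d : ℤ) {p : ℕ} (a : Fin (p + 1) → J.{u} n) (e : Fin (n + 1) → ℤ) : Prop :=
  ∑ i, e i = d ∧ ∀ i, e i < 0 → ∃ k, (a k).down = i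

/-- Elements supported on the good exponents. -/
def Allowed (d : ℤ) {p : ℕ} (a : Fin (p + 1) → J.{u} n) (x : L n R) : Prop :=
  ∀ e, ¬ Good d a e → cf e x = 0

lemma Good.mono {d : ℤ} {p q : ℕ} {a : Fin (p + 1) → J.{u} n} {b : Fin (q + 1) → J.{u} n}
    (h : ∀ k, ∃ l, b l = a k) {e : Fin (n + 1) → ℤ} (he : Good d a e) : Good d b e :=
  ⟨he.1, fun i hi => by
    obtain ⟨k, hk⟩ := he.2 i hi
    obtain ⟨l, hl⟩ := h k
    exact ⟨l, by rw [hl, hk]⟩⟩

lemma surjective_of_good {d : ℤ} {p : ℕ} {a : Fin (p + 1) → J.{u} n} {e : Fin (n + 1) → ℤ}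
    (he : Good d a e) (hn : NegAll e) : Function.Surjective a := fun ⟨i⟩ => by
  obtain ⟨k, hk⟩ := he.2 i (hn i)
  exact ⟨k, by ext; exact congrArg Fin.val hk⟩

lemma cf_dd {p : ℕ} (e : Fin (n + 1) → ℤ) (f : (Fin (p + 1) → J.{u} n) → L n R) (a : Fin (p + 2) → J.{u} n) :
    cf e (dd f a) = dd (fun b => cf e (f b)) a := by
  simp only [dd, map_sum, map_zsmul]

/-- The standard ordering of the indices. -/
abbrev σ (n : ℕ) : Fin (n + 1) ≃ J.{u} n := Equiv.ulift.symm

lemma cf_eq_zero_of_negAll {d : ℤ} {p : ℕ} (hp : p < n) {a : Fin (p + 1) → J.{u} n} {x : L n R}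
    (hx : Allowed d a x) {e : Fin (n + 1) → ℤ} (he : NegAll e) : cf e x = 0 :=
  hx e fun h => not_surjective_of_le hp (σ n) a (surjective_of_good h he)

lemma cf_eq_zero_of_degree {d : ℤ} {p : ℕ} (hd : -((n : ℤ) + 1) < d) {a : Fin (p + 1) → J.{u} n} {x : L n R}
    (hx : Allowed d a x) {e : Fin (n + 1) → ℤ} (he : NegAll e) : cf e x = 0 :=
  hx e fun h => by
    have : ∑ i, e i ≤ ∑ _ : Fin (n + 1), (-1 : ℤ) := sum_le_sum fun i _ => by have := he i; omega
    simp at this
    have := h.1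
    omega

/-- A vertex outside the negative exponents. -/
def i0 (e : Fin (n + 1) → ℤ) : Fin (n + 1) :=
  open Classical in if h : ∃ i, 0 ≤ e i then h.choose else 0

lemma i0_spec {e : Fin (n + 1) → ℤ} (h : ¬ NegAll e) : 0 ≤ e (i0 e) := by
  have h' : ∃ i, 0 ≤ e i := by simpa [NegAll] using h
  rw [i0, dif_pos h']
  exact h'.choose_spec

/-- The global homotopy. -/
def hom {p : ℕ} (f : (Fin (p + 2) → J.{u} n) → L n R) (a : Fin (p + 1) → J.{u} n) : L n R :=
  open Classical in
  ∑ i : Fin (n + 1), .ofCoeff (Finsupp.filter (fun e => i0 e = i) (f (Fin.cons ⟨i⟩ a)).coeff)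

lemma cf_hom {p : ℕ} (f : (Fin (p + 2) → J.{u} n) → L n R) (a : Fin (p + 1) → J.{u} n)
    (e : Fin (n + 1) → ℤ) : cf e (hom f a) = cf e (f (Fin.cons ⟨i0 e⟩ a)) := by
  classical
  rw [hom, map_sum, sum_eq_single (i0 e)]
  · simp [cf]
  · intro i _ hi
    simp [cf, Ne.symm hi]
  · simp

/-- A cocycle of positive degree without totally negative exponents is a coboundary. -/
theorem exists_primitive {d : ℤ} {p : ℕ} (f : (Fin (p + 2) → J.{u} n) → L n R)
    (hf : ∀ a, Allowed d a (f a)) (hd : ∀ a, dd f a = 0)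
    (hneg : ∀ a e, NegAll e → cf e (f a) = 0) :
    ∃ g : (Fin (p + 1) → J.{u} n) → L n R, (∀ a, Allowed d a (g a)) ∧ ∀ a, dd g a = f a := by
  refine ⟨hom f, fun a e he => ?_, fun a => cf_ext fun e => ?_⟩
  · rw [cf_hom]
    by_cases hn : NegAll e
    · exact hneg _ e hn
    refine hf _ e fun h => he ⟨h.1, fun i hi => ?_⟩
    obtain ⟨k, hk⟩ := h.2 i hi
    refine Fin.cases (fun hk => ?_) (fun l hl => ⟨l, by simpa using hl⟩) k hk
    have := i0_spec hn
    simp at hk
    rw [hk] at this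
    omega
  · rw [cf_dd]
    simp only [cf_hom]
    have := homotopy (⟨i0 e⟩ : J.{u} n) (fun b => cf e (f b)) a
    rw [← cf_dd, hd, map_zero, zero_add] at this
    exact this

/-- Degree zero cocycles without totally negative exponents are constant. -/
theorem eq_const {d : ℤ} (f : (Fin 1 → J.{u} n) → L n R)
    (hf : ∀ a, Allowed d a (f a)) (hd : ∀ a, dd f a = 0)
    (hneg : ∀ a e, NegAll e → cf e (f a) = 0) :
    (∀ a b, f a = f b) ∧ ∀ a e, (∃ i, e i < 0) → cf e (f a) = 0 := by
  have key : ∀ a e, cf e (f a) = cf e (f fun _ => ⟨i0 e⟩) := fun a e => by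
    have := homotopy_zero (⟨i0 e⟩ : J.{u} n) (fun b => cf e (f b)) a
    rw [← cf_dd, hd, map_zero] at this
    exact sub_eq_zero.1 this.symm
  refine ⟨fun a b => cf_ext fun e => (key a e).trans (key b e).symm, fun a e ⟨i, hi⟩ => ?_⟩
  by_cases hn : NegAll e
  · exact hneg a e hn
  rw [key]
  refine hf _ e fun h => ?_
  obtain ⟨_, hk⟩ := h.2 i hi
  have := i0_spec hn
  rw [show i0 e = i from hk] at this
  omega

/-- A top cocycle is controlled by its totally negative part at the standard tuple. -/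
theorem top_negAll {d : ℤ} (f : (Fin (n + 1) → J.{u} n) → L n R)
    (hf : ∀ a, Allowed d a (f a)) (hd : ∀ a, dd f a = 0)
    (h : ∀ e, NegAll e → cf e (f (σ n)) = 0) (a : Fin (n + 1) → J.{u} n) {e : Fin (n + 1) → ℤ}
    (he : NegAll e) : cf e (f a) = 0 :=
  eq_zero_of_top (σ n) (fun b => cf e (f b)) (fun b => by rw [← cf_dd, hd, map_zero])
    (fun b hb => hf b e fun h => hb (surjective_of_good h he)) (h e he) a

/-- The top cocycle attached to a totally negative element. -/
def topCochain (x : L n R) (a : Fin (n + 1) → J.{u} n) : L n R := sgn (σ n) R a • x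

lemma topCochain_self (x : L n R) : topCochain.{u} x (σ n) = x := by
  rw [topCochain, sgn_self, one_smul]

lemma allowed_topCochain {d : ℤ} {x : L n R} (hx : ∀ e, ¬ (NegAll e ∧ ∑ i, e i = d) → cf e x = 0)
    (a : Fin (n + 1) → J.{u} n) : Allowed d a (topCochain x a) := fun e he => by
  by_cases ha : Function.Surjective a
  · have : cf e x = 0 := hx e fun h => he ⟨h.2, fun i _ => by
      obtain ⟨k, hk⟩ := ha ⟨i⟩
      exact ⟨k, congrArg ULift.down hk⟩⟩
    simp only [cf, AddMonoidHom.mk'_apply] at this ⊢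
    simp [topCochain, this]
  · rw [topCochain, sgn_eq_zero _ _ _ ha, zero_smul, map_zero]

lemma dd_topCochain (x : L n R) (a : Fin (n + 2) → J.{u} n) : dd (topCochain x) a = 0 := by
  have : dd (topCochain x) a = dd (sgn (σ n) R) a • x := by
    simp only [dd, topCochain, sum_smul, smul_assoc]
  rw [this, dd_sgn, zero_smul]

end Groth.Agent.ProjCech
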