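import Groth.Agent.ProjCech.Laurent
import Groth.Agent.GrT.Affine
import Groth.Agent.GrT.Twist
import Groth.Agent.GrT.Dehom
import Groth.Agent.GrT.TwistTensor
import Groth.Agent.ProjMor.Base
import Groth.Agent.S9576

/-!
Sections of twists on intersections of the standard opens of projective space, as Laurent polynomials.
-/

set_option autoImplicit false
set_option backward.isDefEq.respectTransparency false

universe u

open CategoryTheory AlgebraicGeometry TopologicalSpace Opposite
open Groth.Agent.QC (res resO)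

noncomputable section

namespace Groth.Agent.ProjCech

variable {n : ℕ} {R : Type u} [CommRing R]

/-- Exponents as integers. -/
def φ : (Fin (n + 1) →₀ ℕ) →+ (Fin (n + 1) → ℤ) where
  toFun m i := m i
  map_zero' := by funext i; simp
  map_add' a b := by funext i; simp

lemma φ_injective : Function.Injective (φ (n := n)) := fun a b h => Finsupp.ext fun i => by
  have := congrFun h i
  simpa [φ] using this

/-- Polynomials as Laurent polynomials. -/
def toL : MvPolynomial (Fin (n + 1)) R →+* L n R := AddMonoidAlgebra.mapDomainRingHom R φ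

lemma toL_injective : Function.Injective (toL (n := n) (R := R)) :=
  AddMonoidAlgebra.mapDomain_injective φ_injective

lemma toL_monomial (m : Fin (n + 1) →₀ ℕ) (r : R) :
    toL (MvPolynomial.monomial m r) = AddMonoidAlgebra.single (φ m) r :=
  AddMonoidAlgebra.mapDomain_single

lemma cf_single_mul (c : Fin (n + 1) → ℤ) (x : L n R) (e : Fin (n + 1) → ℤ) :
    cf e (x * AddMonoidAlgebra.single c 1) = cf (e - c) x := by
  simp only [cf, AddMonoidHom.mk'_apply]
  rw [AddMonoidAlgebra.coeff_mul_single_apply, mul_one, sub_eq_add_neg]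

lemma cf_toL (p : MvPolynomial (Fin (n + 1)) R) (m : Fin (n + 1) →₀ ℕ) : cf (φ m) (toL p) = p.coeff m := by
  change (Finsupp.mapDomain φ _) (φ m) = _
  rw [Finsupp.mapDomain_apply φ_injective]
  rfl

lemma exists_of_cf_toL_ne {p : MvPolynomial (Fin (n + 1)) R} {e : Fin (n + 1) → ℤ}
    (h : cf e (toL p) ≠ 0) : ∃ m, φ m = e ∧ p.coeff m ≠ 0 := by
  by_contra hc
  push Not at hc
  refine h ?_
  by_cases he : e ∈ Set.range (φ (n := n))
  · obtain ⟨m, rfl⟩ := he
    rw [cf_toL, hc m rfl]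
  · exact Finsupp.mapDomain_of_notMem_range _ _ he

variable {p : ℕ}

/-- The exponent of the product of the coordinates of a tuple. -/
def den (a : Fin (p + 1) → J.{u} n) : Fin (n + 1) →₀ ℕ := ∑ k, Finsupp.single (a k).down 1

/-- The product of the coordinates of a tuple. -/
def T (R : Type u) [CommRing R] (a : Fin (p + 1) → J.{u} n) : MvPolynomial (Fin (n + 1)) R :=
  MvPolynomial.monomial (den a) 1

lemma den_pos_iff (a : Fin (p + 1) → J.{u} n) (i : Fin (n + 1)) : 0 < den a i ↔ ∃ k, (a k).down = i := by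
  rw [den, Finsupp.finsetSum_apply, Finset.sum_pos_iff]
  simp only [Finset.mem_univ, true_and]
  exact exists_congr fun k => by by_cases h : (a k).down = i <;> simp [h]

lemma degree_den (a : Fin (p + 1) → J.{u} n) : ∑ i, den a i = p + 1 := by
  simp only [den, Finsupp.finsetSum_apply]
  rw [Finset.sum_comm]
  simp [Finsupp.single_apply]

lemma T_eq_prod (a : Fin (p + 1) → J.{u} n) : T R a = ∏ k, MvPolynomial.X (a k).down := by
  rw [T, den, MvPolynomial.monomial_sum_one]
  rfl

lemma T_mem (a : Fin (p + 1) → J.{u} n) : T R a ∈ CohB1.polyGrading n R (p + 1) := by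
  rw [T]
  refine MvPolynomial.isHomogeneous_monomial _ ?_
  rw [Finsupp.degree_eq_sum]
  exact degree_den a

lemma regular_T (a : Fin (p + 1) → J.{u} n) (N : ℕ) : IsLeftRegular (T R a ^ N) := by
  rw [T_eq_prod]
  exact (((IsRegular.prod fun k _ => MvPolynomial.isRegular_X)).pow N).left

lemma toL_T_pow (a : Fin (p + 1) → J.{u} n) (k : ℕ) :
    toL (T R a ^ k) = AddMonoidAlgebra.single (k • φ (den a)) 1 := by
  rw [T, MvPolynomial.monomial_pow, one_pow, toL_monomial, map_nsmul]

lemma basicOpen_T (a : Fin (p + 1) → J.{u} n) :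
    Proj.basicOpen (CohB1.polyGrading n R) (T R a) =
      ⨅ k, Proj.basicOpen (CohB1.polyGrading n R) (MvPolynomial.X (a k).down) := by
  refine Opens.ext (Set.ext fun x => ?_)
  rw [Opens.coe_iInf, Set.mem_iInter]
  simp only [SetLike.mem_coe]
  rw [T_eq_prod]
  constructor
  · intro h k
    refine (ProjectiveSpectrum.mem_basicOpen _ _ x).mpr fun hk => (ProjectiveSpectrum.mem_basicOpen _ _ x).mp h ?_
    exact (Ideal.IsPrime.prod_mem_iff (hp := x.isPrime)).mpr ⟨k, Finset.mem_univ k, hk⟩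
  · intro h
    refine (ProjectiveSpectrum.mem_basicOpen _ _ x).mpr fun hx => ?_
    obtain ⟨k, -, hk⟩ := (Ideal.IsPrime.prod_mem_iff (hp := x.isPrime)).mp hx
    exact (ProjectiveSpectrum.mem_basicOpen _ _ x).mp (h k) hk

variable (n R) in
/-- The twists. -/
abbrev O (d : ℤ) : (Proj (CohB1.polyGrading n R)).Modules :=
  GrTilde.tilde (CohB1.polyGrading n R) (CohB1.polyGrading n R) d

variable {d : ℤ} {a : Fin (p + 1) → J.{u} n} {V : (Proj (CohB1.polyGrading n R)).Opens}

/-- `s` is the fraction `P / T ^ k`. -/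
def IsFrac (a : Fin (p + 1) → J.{u} n) (s : Γ(O n R d, V)) (k : ℕ) (P : MvPolynomial (Fin (n + 1)) R) : Prop :=
  (∃ i : ℕ, (i : ℤ) = k * (p + 1 : ℕ) + d ∧ P ∈ CohB1.polyGrading n R i) ∧
    ∀ (y : V) (hy : T R a ^ k ∉ y.1.asHomogeneousIdeal),
      GrT.pt _ _ s y = GrT.fr (CohB1.polyGrading n R) y.1 P (T R a ^ k) hy

variable (hV : V = Proj.basicOpen (CohB1.polyGrading n R) (T R a))

include hV in
lemma T_not_mem (y : V) : T R a ∉ y.1.asHomogeneousIdeal :=
  (ProjectiveSpectrum.mem_basicOpen _ _ y.1).mp (hV.le y.2)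

include hV in
lemma exists_isFrac (s : Γ(O n R d, V)) : ∃ k P, IsFrac a s k P := by
  subst hV
  obtain ⟨k, i, m, hi, hm, h⟩ := GrT.exists_frac_basicOpen (CohB1.polyGrading n R) (CohB1.polyGrading n R) d
    (Nat.succ_pos p) (T_mem a) s
  exact ⟨k, m, ⟨i, hi, hm⟩, h⟩

/-- The Laurent polynomial of a fraction. -/
def lof (a : Fin (p + 1) → J.{u} n) (k : ℕ) (P : MvPolynomial (Fin (n + 1)) R) : L n R :=
  toL P * AddMonoidAlgebra.single (-(k • φ (den a))) 1

lemma lof_mul_T (k l : ℕ) (P : MvPolynomial (Fin (n + 1)) R) :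
    lof a (k + l) (P * T R a ^ l) = lof a k P := by
  rw [lof, lof, map_mul, toL_T_pow, mul_assoc, AddMonoidAlgebra.single_mul_single, mul_one]
  congr 2
  rw [add_nsmul]; abel

lemma lof_eq_iff (k : ℕ) (P Q : MvPolynomial (Fin (n + 1)) R) : lof a k P = lof a k Q ↔ P = Q := by
  refine ⟨fun h => toL_injective ?_, fun h => h ▸ rfl⟩
  have := congrArg (· * AddMonoidAlgebra.single (k • φ (den a)) (1 : R)) h
  simpa [lof, mul_assoc, AddMonoidAlgebra.single_mul_single, ← AddMonoidAlgebra.one_def] using this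

lemma IsFrac.mul_T {s : Γ(O n R d, V)} {k : ℕ} {P : MvPolynomial (Fin (n + 1)) R} (h : IsFrac a s k P) (l : ℕ) :
    IsFrac a s (k + l) (P * T R a ^ l) := by
  obtain ⟨⟨i, hi, hP⟩, h⟩ := h
  refine ⟨⟨i + l * (p + 1), by push_cast at hi ⊢; linarith,
    SetLike.mul_mem_graded hP (by simpa [mul_comm] using SetLike.pow_mem_graded l (T_mem a))⟩, fun y hy => ?_⟩
  have hy' : T R a ^ k ∉ y.1.asHomogeneousIdeal :=
    GrT.left_not_mem _ (b := T R a ^ l) (by rwa [← pow_add])
  rw [h y hy']
  exact GrT.fr_congr _ y.1 _ _ (by simp only [smul_eq_mul]; ring)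

include hV in
lemma frac_unique {s : Γ(O n R d, V)} {k : ℕ} {P Q : MvPolynomial (Fin (n + 1)) R}
    (h₁ : IsFrac a s k P) (h₂ : IsFrac a s k Q) : P = Q := by
  obtain ⟨⟨i, hi, hP⟩, h₁⟩ := h₁
  obtain ⟨⟨j, hj, hQ⟩, h₂⟩ := h₂
  obtain rfl : j = i := by omega
  obtain ⟨N, hN⟩ := GrT.exists_pow_smul_eq_zero (CohB1.polyGrading n R) (CohB1.polyGrading n R)
    (sub_mem hP hQ) (Nat.succ_pos p) (T_mem a) fun x hx => by
      have hxk := GrT.not_mem_pow (CohB1.polyGrading n R) hx k
      let y : V := ⟨x, hV.ge ((ProjectiveSpectrum.mem_basicOpen _ _ x).mpr hx)⟩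
      obtain ⟨w, hw, e⟩ := (GrT.fr_eq_iff _ x hxk hxk).mp ((h₁ y hxk).symm.trans (h₂ y hxk))
      refine ⟨w * T R a ^ k, GrT.not_mem_mul _ hw hxk, ?_⟩
      rw [mul_smul, smul_sub]; exact e
  refine sub_eq_zero.1 (regular_T a N ?_)
  simpa [smul_eq_mul] using hN

include hV in
lemma lof_unique {s : Γ(O n R d, V)} {k l : ℕ} {P Q : MvPolynomial (Fin (n + 1)) R}
    (h₁ : IsFrac a s k P) (h₂ : IsFrac a s l Q) : lof a k P = lof a l Q := by
  rw [← lof_mul_T k l P, ← lof_mul_T l k Q, add_comm l k]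
  exact (lof_eq_iff _ _ _).2 (frac_unique hV (h₁.mul_T l) (add_comm l k ▸ h₂.mul_T k))

/-- The Laurent polynomial of a section. -/
def val (s : Γ(O n R d, V)) : L n R :=
  lof a (exists_isFrac hV s).choose (exists_isFrac hV s).choose_spec.choose

lemma val_eq {s : Γ(O n R d, V)} {k : ℕ} {P : MvPolynomial (Fin (n + 1)) R} (h : IsFrac a s k P) :
    val hV s = lof a k P :=
  lof_unique hV (exists_isFrac hV s).choose_spec.choose_spec h

lemma val_add (s t : Γ(O n R d, V)) : val hV (s + t) = val hV s + val hV t := by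
  obtain ⟨k, P, hP⟩ := exists_isFrac hV s
  obtain ⟨l, Q, hQ⟩ := exists_isFrac hV t
  have h1 := hP.mul_T l
  have h2 : IsFrac a t (k + l) (Q * T R a ^ k) := add_comm l k ▸ hQ.mul_T k
  have h3 : IsFrac a (s + t) (k + l) (P * T R a ^ l + Q * T R a ^ k) := by
    obtain ⟨⟨i, hi, hi'⟩, e1⟩ := h1
    obtain ⟨⟨j, hj, hj'⟩, e2⟩ := h2
    obtain rfl : j = i := by omega
    refine ⟨⟨j, hj, add_mem hi' hj'⟩, fun y hy => ?_⟩
    rw [GrT.pt_add, e1 y hy, e2 y hy, GrT.fr_add]
    exact GrT.fr_congr _ y.1 _ _ (by simp only [smul_eq_mul]; ring)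
  rw [val_eq hV h1, val_eq hV h2, val_eq hV h3, lof, lof, lof, map_add, add_mul]

/-- `val` as a homomorphism. -/
def valHom : Γ(O n R d, V) →+ L n R := AddMonoidHom.mk' (val hV) (val_add hV)

lemma valHom_apply (s : Γ(O n R d, V)) : valHom hV s = val hV s := rfl

lemma valHom_injective : Function.Injective (valHom (d := d) hV) := by
  rw [injective_iff_map_eq_zero]
  intro s hs
  obtain ⟨k, P, hP⟩ := exists_isFrac hV s
  rw [valHom_apply, val_eq hV hP] at hs
  have : P = 0 := (lof_eq_iff k P 0).1 (hs.trans (by simp [lof]))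
  subst this
  refine GrT.pt_ext _ _ fun y => ?_
  rw [hP.2 y (GrT.not_mem_pow _ (T_not_mem hV y) k), GrT.fr_zero]
  rfl

lemma allowed_valHom (s : Γ(O n R d, V)) : Allowed d a (valHom hV s) := by
  obtain ⟨k, P, hP⟩ := exists_isFrac hV s
  intro e he
  rw [valHom_apply, val_eq hV hP, lof, cf_single_mul, sub_neg_eq_add]
  by_contra h
  obtain ⟨m, hm, hm'⟩ := exists_of_cf_toL_ne h
  obtain ⟨⟨i, hi, hPi⟩, -⟩ := hP
  have hdeg : ∑ l, m l = i := by
    have := (MvPolynomial.mem_homogeneousSubmodule _ _).1 hPi hm'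
    rwa [show Finsupp.weight (1 : Fin (n + 1) → ℕ) m = Finsupp.degree m by
      rw [Finsupp.degree_eq_weight_one]; rfl, Finsupp.degree_eq_sum] at this
  refine he ⟨?_, fun l hl => (den_pos_iff a l).1 ?_⟩
  · have h1 : ∀ l, (m l : ℤ) = e l + k * (den a l : ℤ) := fun l => by
      have := congrFun hm l
      simpa [φ] using this
    have h2 : ∑ l, ((den a l : ℤ)) = (p + 1 : ℕ) := by exact_mod_cast degree_den a
    have h3 : ∑ l, (m l : ℤ) = i := by exact_mod_cast hdeg
    simp only [h1, Finset.sum_add_distrib, ← Finset.mul_sum, h2] at h3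
    push_cast at hi h3
    linarith
  · have := congrFun hm l
    simp [φ] at this
    by_contra h0
    simp [Nat.eq_zero_of_not_pos h0] at this
    omega

lemma exists_valHom_eq (x : L n R) (hx : Allowed d a x) : ∃ s : Γ(O n R d, V), valHom hV s = x := by
  classical
  let K : ℕ := x.coeff.support.sup (fun e => Finset.univ.sup fun l => (-e l).toNat) + d.natAbs
  let e' : (Fin (n + 1) → ℤ) → (Fin (n + 1) →₀ ℕ) := fun e =>
    Finsupp.equivFunOnFinite.symm fun l => (e l + K * (den a l : ℤ)).toNat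
  have key : ∀ e ∈ x.coeff.support, φ (e' e) = e + K • φ (den a) ∧
      ∑ l, ((e' e) l : ℤ) = d + K * (p + 1 : ℕ) := fun e he => by
    have hg : Good d a e := by
      by_contra h
      exact Finsupp.mem_support_iff.1 he (hx e h)
    have hnn : ∀ l, 0 ≤ e l + K * (den a l : ℤ) := fun l => by
      by_cases hl : e l < 0
      · have hpos := (den_pos_iff a l).2 (hg.2 l hl)
        have : (-e l).toNat ≤ K :=
          ((Finset.le_sup (f := fun l => (-e l).toNat) (Finset.mem_univ l)).trans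
            (Finset.le_sup (f := fun e : Fin (n + 1) → ℤ => Finset.univ.sup fun l => (-e l).toNat) he)).trans
            (Nat.le_add_right _ _)
        have h1 : (K : ℤ) ≤ K * (den a l : ℤ) := le_mul_of_one_le_right (by positivity) (by exact_mod_cast hpos)
        omega
      · have : 0 ≤ (K : ℤ) * (den a l : ℤ) := by positivity
        omega
    refine ⟨funext fun l => ?_, ?_⟩
    · simp [φ, e', Int.toNat_of_nonneg (hnn l)]
    · have h2 : ∑ l, ((den a l : ℤ)) = (p + 1 : ℕ) := by exact_mod_cast degree_den a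
      simp only [e', Finsupp.equivFunOnFinite_symm_apply_apply, Int.toNat_of_nonneg (hnn _),
        Finset.sum_add_distrib, hg.1, ← Finset.mul_sum, h2]
  let P : MvPolynomial (Fin (n + 1)) R := ∑ e ∈ x.coeff.support, MvPolynomial.monomial (e' e) (x.coeff e)
  obtain ⟨i, hi⟩ : ∃ i : ℕ, (i : ℤ) = K * (p + 1 : ℕ) + d := ⟨(K * (p + 1 : ℕ) + d).toNat, by
    refine Int.toNat_of_nonneg ?_
    have h1 : (d.natAbs : ℤ) ≤ K := by simp only [K]; push_cast; omega
    have h2 : (K : ℤ) ≤ K * (p + 1 : ℕ) := le_mul_of_one_le_right (by positivity) (by simp)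
    omega⟩
  have hP : P ∈ CohB1.polyGrading n R i := sum_mem fun e he => MvPolynomial.isHomogeneous_monomial _ (by
    rw [Finsupp.degree_eq_sum]
    have := (key e he).2
    zify
    rw [this, hi]; ring)
  let s : Γ(O n R d, V) := GrT.fracSect (CohB1.polyGrading n R) (CohB1.polyGrading n R) d hP
    (SetLike.pow_mem_graded K (T_mem a)) (by rw [hi]; simp) V
    (fun y => GrT.not_mem_pow _ (T_not_mem hV y) K)
  refine ⟨s, ?_⟩
  rw [valHom_apply, val_eq hV (k := K) (P := P) ⟨⟨i, hi, hP⟩, fun y hy => rfl⟩, lof, map_sum, Finset.sum_mul]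
  calc ∑ e ∈ x.coeff.support, toL (MvPolynomial.monomial (e' e) (x.coeff e)) *
        AddMonoidAlgebra.single (-(K • φ (den a))) 1
      = ∑ e ∈ x.coeff.support, AddMonoidAlgebra.single e (x.coeff e) := by
        refine Finset.sum_congr rfl fun e he => ?_
        rw [toL_monomial, AddMonoidAlgebra.single_mul_single, mul_one, (key e he).1, add_neg_cancel_right]
    _ = x := cf_ext fun e => by simpa [cf, Finsupp.single_apply] using fun h => h.symm

/-- Restriction to a smaller intersection. -/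
lemma valHom_res {b : Fin (p + 2) → J.{u} n} (k₀ : Fin (p + 2))
    {W : (Proj (CohB1.polyGrading n R)).Opens}
    (hW : W = Proj.basicOpen (CohB1.polyGrading n R) (T R b)) (hab : a = b ∘ k₀.succAbove) (h : W ≤ V)
    (s : Γ(O n R d, V)) : valHom hW (res (O n R d) h s) = valHom hV s := by
  obtain ⟨k, P, hP⟩ := exists_isFrac hV s
  have eT : T R b = T R a * MvPolynomial.X (b k₀).down := by
    rw [T_eq_prod, T_eq_prod, hab, Fin.prod_univ_succAbove _ k₀, mul_comm]
    rfl
  have hden : den b = den a + Finsupp.single (b k₀).down 1 := by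
    rw [den, den, hab, Fin.sum_univ_succAbove _ k₀]
    exact add_comm _ _
  obtain ⟨⟨i, hi, hPi⟩, hy⟩ := hP
  have hW' : IsFrac b (res (O n R d) h s) k (P * MvPolynomial.X (b k₀).down ^ k) := by
    refine ⟨⟨i + k, by push_cast at hi ⊢; linarith,
      SetLike.mul_mem_graded hPi (GrT.pow_mem_one _ (MvPolynomial.isHomogeneous_X R _) k)⟩, fun y hTy => ?_⟩
    rw [GrT.pt_res, hy ⟨y.1, h y.2⟩ (GrT.not_mem_pow _ (T_not_mem hV ⟨y.1, h y.2⟩) k)]
    exact GrT.fr_congr _ y.1 _ _ (by rw [eT, mul_pow]; simp only [smul_eq_mul]; ring)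
  rw [valHom_apply, valHom_apply, val_eq hW hW', val_eq hV ⟨⟨i, hi, hPi⟩, hy⟩, lof, lof, map_mul,
    MvPolynomial.X_pow_eq_monomial, toL_monomial, mul_assoc, AddMonoidAlgebra.single_mul_single, mul_one]
  congr 2
  rw [hden, map_add, smul_add, neg_add, ← map_nsmul φ k (Finsupp.single _ 1), Finsupp.smul_single,
    smul_eq_mul, mul_one]
  abel

/-- The scalars act by scalar multiplication. -/
lemma valHom_smul (r : R) (s : Γ(O n R d, V)) :
    valHom hV (resO (Proj (CohB1.polyGrading n R)) (le_top : V ≤ ⊤)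
        (ProjUP.toGlobal (ProjMor.base (CohB1.polyGrading n R)) r) • s) = r • valHom hV s := by
  obtain ⟨k, P, hP⟩ := exists_isFrac hV s
  obtain ⟨⟨i, hi, hPi⟩, hs⟩ := hP
  have h : IsFrac a (resO (Proj (CohB1.polyGrading n R)) (le_top : V ≤ ⊤)
      (ProjUP.toGlobal (ProjMor.base (CohB1.polyGrading n R)) r) • s) k (r • P) := by
    refine ⟨⟨i, hi, Submodule.smul_mem _ r hPi⟩, fun y hy => ?_⟩
    obtain ⟨l, hl⟩ : ∃ l, y.1 ∈ Proj.basicOpen (CohB1.polyGrading n R) (MvPolynomial.X l) :=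
      Opens.mem_iSup.1 ((Groth.Agent.S9576.result n R).1.ge trivial)
    have hX : (MvPolynomial.X l : MvPolynomial (Fin (n + 1)) R) ∈ CohB1.polyGrading n R 1 :=
      MvPolynomial.isHomogeneous_X R l
    have hX0 : (MvPolynomial.X l : MvPolynomial (Fin (n + 1)) R) ^ 0 ∉ y.1.asHomogeneousIdeal :=
      GrT.not_mem_pow _ ((ProjectiveSpectrum.mem_basicOpen _ _ y.1).mp hl) 0
    let W := V ⊓ Proj.basicOpen (CohB1.polyGrading n R) (MvPolynomial.X l)
    have e : GrT.pO (CohB1.polyGrading n R) (resO (Proj (CohB1.polyGrading n R)) (le_top : V ≤ ⊤)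
        (ProjUP.toGlobal (ProjMor.base (CohB1.polyGrading n R)) r)) y =
        Localization.mk (algebraMap R _ r) ⟨_, hX0⟩ := by
      have := GrT.pO_deh (CohB1.polyGrading n R) hX (SetLike.algebraMap_mem_graded _ r)
        (inf_le_right : W ≤ _) ⟨y.1, y.2, hl⟩ hX0
      rw [← ProjMor.res_toGlobal_base (CohB1.polyGrading n R) hX r, Groth.Agent.QC.resO_resO] at this
      exact this
    rw [GrT.pt_smul, hs y hy, show ((resO (Proj (CohB1.polyGrading n R)) (le_top : V ≤ ⊤)
        (ProjUP.toGlobal (ProjMor.base (CohB1.polyGrading n R)) r) : Twist.O (op V)).1 y).val = _ from e,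
      LocalizedModule.mk_smul_mk]
    exact GrT.fr_congr _ y.1 _ _ (by simp [Algebra.smul_def])
  rw [valHom_apply, valHom_apply, val_eq hV h, val_eq hV ⟨⟨i, hi, hPi⟩, hs⟩, lof, lof,
    MvPolynomial.smul_eq_C_mul, map_mul, ← MvPolynomial.monomial_zero', toL_monomial, map_zero,
    mul_assoc]
  refine cf_ext fun e => ?_
  simp [cf, AddMonoidAlgebra.coeff_single_mul_apply]

end Groth.Agent.ProjCech
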